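import Cfsg.Agent.H977.E6A.CovTE6
import Cfsg.Agent.H306.E6N.OutTE6
import Cfsg.Agent.H306.E6N.Fin2

/-!
# Covers of `E₆(q)` and `²E₆(q)`, all `q` (helper977, S3442)
-/

set_option autoImplicit false

namespace Cfsg.Agent.H977.E6A

open Cfsg Cfsg.Lie Cfsg.Agent.H373.Recog Cfsg.Agent.H129

universe u v w

/-- the numbers exist -/
theorem exists_dat {ε : ℤ} (he : ε = 1 ∨ ε = -1) {q : ℕ} (hq : IsPrimePow q) : ∃ D : Dat, D.ε = ε ∧ D.q = q := by
  have hq2 : (2 : ℤ) ≤ q := by exact_mod_cast hq.two_le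
  have hq1 : (q : ℤ) ≤ (q : ℤ) ^ 2 := by nlinarith
  have hq4 : (q : ℤ) ^ 2 ≤ (q : ℤ) ^ 4 := pow_le_pow_right₀ (by linarith) (by norm_num)
  have hm0 : (0 : ℤ) ≤ (q : ℤ) ^ 4 - q ^ 2 + 1 := by linarith
  obtain ⟨m, hm⟩ := Int.eq_ofNat_of_zero_le hm0
  have hc0 : (0 : ℤ) ≤ (q : ℤ) ^ 2 + ε * q + 1 := by
    rcases he with rfl | rfl <;> nlinarith
  have he0 : (0 : ℤ) ≤ ((q : ℤ) ^ 2 + ε * q + 1) * m := mul_nonneg hc0 (by positivity)
  obtain ⟨e, hee⟩ := Int.eq_ofNat_of_zero_le he0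
  have hn0 : (0 : ℤ) ≤ (q : ℤ) ^ 6 + ε * q ^ 3 + 1 := by
    have h3 : (0 : ℤ) ≤ (q : ℤ) ^ 3 := by positivity
    have h6 : (q : ℤ) ^ 6 = (q : ℤ) ^ 3 * (q : ℤ) ^ 3 := by ring
    have h8 : (2 : ℤ) ≤ (q : ℤ) ^ 3 := by nlinarith
    rcases he with rfl | rfl <;> nlinarith
  by_cases h3 : (3 : ℤ) ∣ q - ε
  · have hd : (3 : ℤ) ∣ (q : ℤ) ^ 6 + ε * q ^ 3 + 1 := by
      have h1 : (3 : ℤ) ∣ (q : ℤ) ^ 3 - ε ^ 3 := h3.trans (sub_dvd_pow_sub_pow _ _ 3)
      have h2 : ε ^ 3 = ε := by rcases he with rfl | rfl <;> norm_num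
      have h4 : ε ^ 2 = 1 := by rcases he with rfl | rfl <;> norm_num
      rw [h2] at h1
      have h5 : (q : ℤ) ^ 6 + ε * q ^ 3 + 1 = ((q : ℤ) ^ 3 - ε) * ((q : ℤ) ^ 3 + 2 * ε) + 3 * 1 := by
        linear_combination (2 : ℤ) * h4
      rw [h5]
      exact dvd_add (h1.mul_right _) (dvd_mul_right _ _)
    obtain ⟨k, hk⟩ := hd
    have hk0 : 0 ≤ k := by
      by_contra h
      push Not at h
      rw [hk] at hn0
      linarith
    obtain ⟨n, rfl⟩ := Int.eq_ofNat_of_zero_le hk0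
    exact ⟨{ ε := ε, q := q, d := 3, n := n, m := m, e := e, pp := hq, eps := he, hd := Or.inr rfl,
             hd3 := ⟨fun _ => h3, fun _ => rfl⟩, hn := by rw [hk]; push_cast; rfl, hm := hm.symm,
             he := hee.symm }, rfl, rfl⟩
  · obtain ⟨n, hn⟩ := Int.eq_ofNat_of_zero_le hn0
    exact ⟨{ ε := ε, q := q, d := 1, n := n, m := m, e := e, pp := hq, eps := he, hd := Or.inl rfl,
             hd3 := ⟨fun h => by norm_num at h, fun h => absurd h h3⟩,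
             hn := by rw [hn]; push_cast; ring, hm := hm.symm, he := hee.symm }, rfl, rfl⟩

/-- **Covers of `E₆(q)`**, all `q`. -/
theorem hit_E6 {F : Type v} [Field F] [Fintype F] : Cov.{v, w} ↥(chevE6.group F) := by
  obtain ⟨D, h1, h2⟩ := exists_dat (ε := 1) (Or.inl rfl) (q := Fintype.card F) (FiniteField.isPrimePow_card F)
  exact cov_E6 h1 h2.symm

/-- the facts on element orders of `²E₆(q)` -/
theorem ordT_tE6 {K : Type v} [Field K] [Fintype K] {q : ℕ} (hq : IsPrimePow q) (hK : Fintype.card K = q ^ 2) :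
    OrdT ↥(twistedE6 K q) q := by
  obtain ⟨l, hl⟩ := CharP.exists K
  have hlp : Fact l.Prime := ⟨CharP.char_is_prime K l⟩
  have om := fun x => H306.E6N.om_nt (p := l) hq hK x
  have hlq : l ∣ q := by
    obtain ⟨n, -, h3⟩ := FiniteField.card K l
    have h4 : l ∣ q ^ 2 := by
      rw [← hK, h3]
      exact dvd_pow_self l n.ne_zero
    exact hlp.out.dvd_of_dvd_pow h4
  have huniq : ∀ p : ℕ, p.Prime → p ∣ q → p = l := by
    intro p hp hpq
    obtain ⟨p', n, hp', -, hn⟩ := id hq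
    have h1 : ∀ {s : ℕ}, s.Prime → s ∣ q → s = p' := fun {s} hs h2 =>
      (Nat.prime_dvd_prime_iff_eq hs hp'.nat_prime).1 (hs.dvd_of_dvd_pow (hn ▸ h2))
    exact (h1 hp hpq).trans (h1 hlp.out hlq).symm
  refine ⟨?_, ?_, ?_⟩
  · intro x p r hp hpq hpx hr h5 hd hx
    have h6 := huniq p hp hpq
    subst h6
    exact H306.E6N.tw_c6 hq hK om hr h5 hd x hx hpx
  · intro h3 x a ha
    exact H306.E6N.tw_c3 hq hK om h3 ha x
  · intro h2 x t ht h5 h7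
    exact H306.E6N.tw_c2 hq hK om h2 ht h5 h7 x

/-- **Covers of `²E₆(q)`**, all `q`. -/
theorem hit_tE6 {K : Type v} [Field K] [Fintype K] {q : ℕ} (hq : IsPrimePow q) (hK : Fintype.card K = q ^ 2) :
    Cov.{v, w} ↥(twistedE6 K q) := by
  obtain ⟨D, h1, h2⟩ := exists_dat (ε := -1) (Or.inr rfl) hq
  subst h2
  exact cov_tE6 h1 hK (ordT_tE6 hq hK)

end Cfsg.Agent.H977.E6A
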