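import Cfsg.Agent.H414.E6.Frob
import Cfsg.Agent.H977.E6A.SitE6
import Cfsg.Agent.H129.FE.Fix
import Cfsg.Agent.H564.U.F4
import Cfsg.Agent.H72.F4I.Num
import Cfsg.Agent.S1054

/-!
# Covers of `E₆(q)` (helper414, S3480)
-/

set_option autoImplicit false
set_option linter.unusedSectionVars false

namespace Cfsg.Agent.H977.E6A

open Cfsg Cfsg.Lie Cfsg.Agent.H373.Recog Cfsg.Agent.H414.Tw Cfsg.Agent.H129
open Cfsg.Agent.H414.E6 (frob_E6 frob_F4 frob_tE6_8 frob_tE6_6)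

universe u v w

/-- an element of order prime to `t` for the trivial modules -/
theorem exists_x0 {D : Dat} {M : Type*} [Group M] [Finite M] (h : Sit D M) (h2 : ∃ x : M, orderOf x = 2) {t : ℕ}
    (ht : t.Prime) : ∃ x₀ : M, ¬ t ∣ orderOf x₀ ∧ ¬ ∃ y : M, orderOf y = t * orderOf x₀ := by
  by_cases htn : t ∣ D.n
  · obtain ⟨x, hx⟩ := h2
    have ht2 : t ≠ 2 := by
      rintro rfl
      exact D.n_odd htn
    refine ⟨x, ?_, ?_⟩
    · rw [hx]
      intro h3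
      exact ht2 ((Nat.prime_dvd_prime_iff_eq ht Nat.prime_two).1 h3)
    · rintro ⟨y, hy⟩
      rw [hx] at hy
      have h3 := h.iso y t ht htn (hy ▸ dvd_mul_right t 2)
      rw [hy] at h3
      exact D.n_odd ((dvd_mul_left 2 t).trans h3)
  · obtain ⟨x, hx⟩ := h.on
    refine ⟨x, by rw [hx]; exact htn, ?_⟩
    rintro ⟨y, hy⟩
    rw [hx] at hy
    obtain ⟨s, hs, hsn⟩ := Nat.exists_prime_and_dvd (n := D.n) (by have := D.one_lt_n; omega)
    have h3 := h.iso y s hs hsn (hy ▸ hsn.mul_left t)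
    rw [hy] at h3
    have h4 := Nat.le_of_dvd D.pos_n h3
    have h5 : 2 * D.n ≤ t * D.n := Nat.mul_le_mul_right _ ht.two_le
    have := D.pos_n
    omega

/-- the covering step in the own characteristic -/
theorem own_step {L : Type v} [Group L] {p : ℕ} (hp : p.Prime) {x : L} (hf : H425.KFix.FixAll.{w} p x)
    (hpx : ¬ p ∣ orderOf x) (hno : ¬ ∃ y : L, orderOf y = p * orderOf x) {V : Type w} [AddCommGroup V] [Finite V]
    [Nontrivial V] (hV : ∀ v : V, p • v = 0) (φ : L →* AddMonoid.End V) :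
    ∃ (x : L) (v : V), ∑ i ∈ Finset.range (orderOf x), φ (x ^ i) v ≠ 0 ∧ ¬ ∃ y : L, orderOf y = p * orderOf x := by
  have : Finite (Multiplicative V) := inferInstanceAs (Finite V)
  have : Nontrivial (Multiplicative V) := inferInstanceAs (Nontrivial V)
  obtain ⟨v, hv, h1⟩ := hf.mul (W := Multiplicative V) (fun v => congrArg Multiplicative.ofAdd (hV v.toAdd))
    (toMulAut φ)
  refine ⟨x, v.toAdd, ?_, hno⟩
  exact sum_ne_zero_of_fixed hp hV φ (fun h => hv (congrArg Multiplicative.ofAdd h))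
    (congrArg Multiplicative.toAdd h1) hpx

/-- a prime divisor of `Φ₁₂(q)` and an element of that order -/
theorem exists_m {D : Dat} {M : Type*} [Group M] [Finite M] (h : Sit D M) {p : ℕ} (hp : p.Prime) (hpq : p ∣ D.q) :
    ∃ r : ℕ, r.Prime ∧ r ∣ D.m ∧ r ≠ p ∧ (∃ x : M, orderOf x = r) ∧ ¬ ∃ y : M, orderOf y = p * r := by
  obtain ⟨r, hr, hrm⟩ := Nat.exists_prime_and_dvd (n := D.m) (by have := D.m_ge; omega)
  have hpe : ¬ p ∣ D.e := by
    intro h1
    have h2 : (p : ℤ) ∣ D.e := Int.natCast_dvd_natCast.2 h1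
    have h3 : (p : ℤ) ∣ D.q := Int.natCast_dvd_natCast.2 hpq
    rw [D.he, D.hm] at h2
    have h4 : (p : ℤ) ∣ 1 := by
      have e : (1 : ℤ) = ((D.q : ℤ) ^ 2 + D.ε * D.q + 1) * ((D.q : ℤ) ^ 4 - D.q ^ 2 + 1) -
          D.q * (D.q ^ 5 + D.ε * D.q ^ 4 - D.ε * D.q ^ 2 + D.ε) := by ring
      rw [e]
      exact dvd_sub h2 (h3.mul_right _)
    have h5 : p ∣ 1 := by exact_mod_cast h4
    exact hp.one_lt.ne' (Nat.dvd_one.1 h5)
  refine ⟨r, hr, hrm, ?_, ?_, ?_⟩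
  · rintro rfl
    exact hpe (hrm.trans D.m_dvd_e)
  · obtain ⟨x, hx⟩ := h.om
    obtain ⟨k, hk⟩ := hrm
    refine ⟨x ^ k, ?_⟩
    have hk0 : k ≠ 0 := by
      rintro rfl
      have := D.pos_m
      omega
    rw [orderOf_pow_of_dvd hk0 (by rw [hx, hk]; exact dvd_mul_left k r), hx, hk,
      Nat.mul_div_cancel _ (Nat.pos_of_ne_zero hk0)]
  · rintro ⟨y, hy⟩
    have h1 := h.tor y r hr hrm (hy ▸ dvd_mul_left r p)
    rw [hy] at h1
    exact hpe ((dvd_mul_right p r).trans h1)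

theorem not_three_q4 {q : ℕ} : ¬ 3 ∣ q ^ 4 + 1 := by
  intro h
  have h1 : ((q ^ 4 + 1 : ℕ) : ZMod 3) = 0 := (ZMod.natCast_eq_zero_iff _ _).2 h
  push_cast at h1
  generalize (q : ZMod 3) = z at h1
  revert z
  decide

/-- the 3-part of a number -/
theorem exists_three_part {m : ℕ} (hm : m ≠ 0) : ∃ a, 3 ^ a ∣ m ∧ ¬ 3 ^ (a + 1) ∣ m := by
  obtain ⟨a, n', h1, h2⟩ := Nat.exists_eq_pow_mul_and_not_dvd hm 3 (by norm_num)
  refine ⟨a, h2 ▸ dvd_mul_right _ _, fun h => h1 ?_⟩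
  rw [h2, pow_succ] at h
  exact Nat.dvd_of_mul_dvd_mul_left (by positivity) h

theorem two_dvd_of {a b c q : ℕ} (hq : 1 ≤ q) (h : Nat.gcd 3 a * c = q ^ 36 * (q ^ 2 - 1) * b) : 2 ∣ c := by
  have h1 : 2 ∣ q ^ 36 * (q ^ 2 - 1) := by
    rcases Nat.even_or_odd q with h2 | h2
    · exact Dvd.dvd.mul_right ((even_iff_two_dvd.1 h2).trans (dvd_pow_self q (by norm_num))) _
    · apply Dvd.dvd.mul_left
      have h3 : Odd (q ^ 2) := h2.pow
      obtain ⟨k, hk⟩ := h3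
      rw [hk]
      exact ⟨k, by omega⟩
  have h2 : 2 ∣ Nat.gcd 3 a * c := by rw [h]; exact h1.mul_right b
  rcases (Nat.Prime.dvd_mul Nat.prime_two).1 h2 with h3 | h3
  · have := (Nat.prime_dvd_prime_iff_eq Nat.prime_two Nat.prime_three).1 (h3.trans (Nat.gcd_dvd_left 3 a))
    omega
  · exact h3

section E

variable {F : Type v} [Field F] [Fintype F] {D : Dat} (he : D.ε = 1) (hF : Fintype.card F = D.q)

include hF in
/-- there is an involution -/
theorem two_E6 : ∃ x : ↥(chevE6.group F), orderOf x = 2 := by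
  have : Fact (Nat.Prime 2) := ⟨Nat.prime_two⟩
  apply exists_prime_orderOf_dvd_card' 2
  refine two_dvd_of (q := D.q) (a := D.q - 1)
    (b := (D.q ^ 5 - 1) * (D.q ^ 6 - 1) * (D.q ^ 8 - 1) * (D.q ^ 9 - 1) * (D.q ^ 12 - 1)) (by have := D.two_le; omega) ?_
  rw [S1063.result hF]
  ring

include he hF in
/-- **Covers of `E₆(q)`.** -/
theorem cov_E6 : Cov.{v, w} ↥(chevE6.group F) := by
  intro t ht V _ _ _ hV φ
  have hsit := sit_E6 he hF
  have h2 := two_E6 hF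
  obtain ⟨hsim, -⟩ := S1054.result (F := F) chevE6 (by simp)
  obtain ⟨p, hpc⟩ := CharP.exists F
  have hpp : Fact p.Prime := ⟨CharP.char_is_prime F p⟩
  have hpq : p ∣ D.q := by
    obtain ⟨n, -, h3⟩ := FiniteField.card F p
    rw [← hF, h3]
    exact dvd_pow_self p n.ne_zero
  by_cases htp : t = p
  · subst htp
    obtain ⟨r, hr, hrm, hrp, ⟨x, hx⟩, hno⟩ := exists_m hsit ht hpq
    have hrz : (r : ℤ) ∣ 1 - (D.q : ℤ) ^ 2 + (D.q : ℤ) ^ 4 := by
      have h3 : (r : ℤ) ∣ D.m := Int.natCast_dvd_natCast.2 hrm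
      rw [D.hm] at h3
      have e : (1 : ℤ) - (D.q : ℤ) ^ 2 + (D.q : ℤ) ^ 4 = (D.q : ℤ) ^ 4 - D.q ^ 2 + 1 := by ring
      rwa [e]
    have hfix : H425.KFix.FixAll.{w} t x := FE.fixAll_E6_12' hF hr hrz
      (fun y hy => H564.U.fixAll_F4 y (by rw [hy]; exact (Nat.coprime_primes hr ht).2 hrp)) hx
    refine own_step ht hfix ?_ (by rw [hx]; exact hno) hV φ
    rw [hx]
    intro h3
    exact hrp ((Nat.prime_dvd_prime_iff_eq ht hr).1 h3).symm
  · obtain ⟨x₀, h0, hx0⟩ := exists_x0 hsit h2 ht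
    refine (frob_E6 hF hpp.out hpq).cov hpp.out ht htp hV φ ?_ h0 hx0
    rintro ⟨y, hy⟩
    obtain ⟨r, hr, hr2, hrd⟩ := H72.F4I.exists_eight D.two_le
    have hq2 : 2 ≤ D.q := D.two_le
    have hq1 : D.q - 1 ∣ D.q ^ 2 - 1 := by
      have h := Nat.sub_dvd_pow_sub_pow D.q 1 2
      rwa [one_pow] at h
    have hr3 : r ≠ 3 := by
      rintro rfl
      exact not_three_q4 hrd
    obtain ⟨g, hg⟩ : ∃ g, g = Nat.gcd 3 (D.q - 1) := ⟨_, rfl⟩
    rw [← hg] at hy
    have hgN : g ∣ (D.q ^ 4 + 1) * (D.q ^ 2 - 1) := by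
      rw [hg]
      exact ((Nat.gcd_dvd_right 3 (D.q - 1)).trans hq1).mul_left _
    obtain ⟨N1, hN1⟩ := hgN
    have hg0 : 0 < g := by rw [hg]; exact Nat.gcd_pos_of_pos_left _ (by norm_num)
    rw [hN1, Nat.mul_div_cancel_left _ hg0] at hy
    have hN0 : 0 < N1 := by
      rcases Nat.eq_zero_or_pos N1 with h | h
      · exfalso
        rw [h, mul_zero] at hN1
        have : 2 ^ 2 ≤ D.q ^ 2 := Nat.pow_le_pow_left hq2 2
        have h5 : 0 < (D.q ^ 4 + 1) * (D.q ^ 2 - 1) := Nat.mul_pos (by positivity) (by omega)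
        omega
      · exact h
    have hrN1 : r ∣ N1 := by
      have h3 : r ∣ g * N1 := by rw [← hN1]; exact hrd.mul_right _
      rcases (Nat.Prime.dvd_mul hr).1 h3 with h4 | h4
      · exfalso
        apply hr3
        exact (Nat.prime_dvd_prime_iff_eq hr Nat.prime_three).1 (h4.trans (hg ▸ Nat.gcd_dvd_left 3 _))
      · exact h4
    have hcF : Nat.card F = D.q := by rw [Nat.card_eq_fintype_card, hF]
    have hry : r ∣ orderOf y := by rw [hy]; exact hrN1.mul_left t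
    have h8 := ExactZ.Z8_E6 (F := F) y hr hr2 (by rw [hcF]; exact hrd) hry
    rw [hcF, hy, hN1] at h8
    have htg : t ∣ g := Nat.dvd_of_mul_dvd_mul_right hN0 h8
    have hg3 : g = 3 ∧ t = 3 := by
      have h3 : t = 3 := (Nat.prime_dvd_prime_iff_eq ht Nat.prime_three).1 (htg.trans (hg ▸ Nat.gcd_dvd_left 3 _))
      refine ⟨?_, h3⟩
      rw [h3] at htg
      exact Nat.dvd_antisymm (hg ▸ Nat.gcd_dvd_left 3 _) htg
    obtain ⟨hg3, rfl⟩ := hg3
    rw [hg3] at hN1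
    have h3q : 3 ∣ D.q - 1 := by
      rw [← hg3, hg]
      exact Nat.gcd_dvd_right 3 _
    obtain ⟨a, ha1, ha2⟩ := exists_three_part (m := D.q - 1) (by omega)
    have e : ((D.q - 1 : ℕ) : ℤ) = (D.q : ℤ) - 1 := by push_cast [Nat.cast_sub (by omega : 1 ≤ D.q)]; ring
    refine ExactD.no_E6_8 hF (a := a) ?_ ?_ hr hr2 hrd y ?_
    · rw [← e]; exact_mod_cast h3q
    · rw [← e]; exact_mod_cast ha2
    · rw [hy, ← hN1]
      have h5 : Nat.Coprime (3 ^ a) r := Nat.Coprime.pow_left a ((Nat.coprime_primes Nat.prime_three hr).2 hr3.symm)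
      exact h5.mul_dvd_of_dvd_of_dvd ((ha1.trans hq1).mul_left _) (hrd.mul_right _)

end E

end Cfsg.Agent.H977.E6A
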